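import Mathlib

/-!
# Finite extensions tensored with a field in which the base is integrally closed
-/

set_option autoImplicit false
universe u

open scoped TensorProduct

namespace FinDegLib

open Polynomial

variable {L : Type u} [Field L] {K : Type u} [Field K] [Algebra L K]

theorem irreducible_map (hL : ∀ x : K, IsIntegral L x → x ∈ Set.range (algebraMap L K)) {g : L[X]}
    (hg : g.Monic) (hi : Irreducible g) : Irreducible (g.map (algebraMap L K)) := by
  have hdesc : ∀ a : K[X], a.Monic → a ∣ g.map (algebraMap L K) →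
      ∃ a' : L[X], a'.Monic ∧ a'.map (algebraMap L K) = a ∧ a'.natDegree = a.natDegree := by
    intro a ha hd
    have h1 := (lifts_iff_coeff_lifts _).1 (integralClosure.mem_lifts_of_monic_of_dvd_map K hg ha hd)
    have h2 : a ∈ lifts (algebraMap L K) := (lifts_iff_coeff_lifts _).2 fun n => by
      obtain ⟨z, hz⟩ := h1 n
      exact hL _ (hz ▸ z.2)
    obtain ⟨a', ha1, ha2, ha3⟩ := lifts_and_natDegree_eq_and_monic h2 ha
    exact ⟨a', ha3, ha1, ha2⟩
  have hne : g ≠ 1 := hi.ne_one
  rw [(hg.map _).irreducible_iff_natDegree']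
  refine ⟨fun h => hne (Polynomial.map_injective _ (algebraMap L K).injective (by rw [h, Polynomial.map_one])), ?_⟩
  intro a b ha hb hab
  obtain ⟨a', ha', rfl, hda⟩ := hdesc a ha ⟨b, hab.symm⟩
  obtain ⟨b', hb', rfl, hdb⟩ := hdesc b hb ⟨a'.map _, by rw [← hab, mul_comm]⟩
  rw [← Polynomial.map_mul] at hab
  have := ((hg.irreducible_iff_natDegree').1 hi).2 a' b' ha' hb'
    (Polynomial.map_injective _ (algebraMap L K).injective hab)
  rwa [← hdb, hg.natDegree_map]

theorem isField_tensor_simple (hL : ∀ x : K, IsIntegral L x → x ∈ Set.range (algebraMap L K))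
    {M : Type u} [Field M] [Algebra L M] (α : M) (hα : IsIntegral L α)
    (htop : IntermediateField.adjoin L {α} = ⊤) : IsField (K ⊗[L] M) := by
  haveI : Fact (Irreducible ((minpoly L α).map (algebraMap L K))) :=
    ⟨irreducible_map hL (minpoly.monic hα) (minpoly.irreducible hα)⟩
  let e1 : AdjoinRoot (minpoly L α) ≃ₐ[L] M :=
    (IntermediateField.adjoinRootEquivAdjoin L hα).trans
      ((IntermediateField.equivOfEq htop).trans IntermediateField.topEquiv)
  let e2 : K ⊗[L] M ≃ₐ[L] K ⊗[L] AdjoinRoot (minpoly L α) :=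
    Algebra.TensorProduct.congr AlgEquiv.refl e1.symm
  let e3 := AdjoinRoot.tensorAlgEquiv (R := L) (T := K) (minpoly L α)
    ((minpoly L α).map (Algebra.TensorProduct.includeRight : L →ₐ[L] K ⊗[L] L).toRingHom) rfl
  let e4 : AdjoinRoot ((minpoly L α).map (Algebra.TensorProduct.includeRight : L →ₐ[L] K ⊗[L] L).toRingHom) ≃+*
      AdjoinRoot ((minpoly L α).map (algebraMap L K)) :=
    AdjoinRoot.mapRingEquiv (Algebra.TensorProduct.rid L L K).toRingEquiv _ _ (by
      rw [Polynomial.map_map]
      refine Associated.of_eq (congrArg (fun φ => Polynomial.map φ (minpoly L α)) (RingHom.ext fun x => ?_))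
      show Algebra.TensorProduct.rid L L K (1 ⊗ₜ x) = algebraMap L K x
      rw [Algebra.TensorProduct.rid_tmul, Algebra.smul_def, mul_one])
  exact ((e2.toRingEquiv.trans e3.toRingEquiv).trans e4).toMulEquiv.isField (Field.toIsField _)

theorem isField_tensor_of_pow (q : ℕ) [ExpChar L q] {M : Type u} [Field M] [Algebra L M]
    [IsReduced (K ⊗[L] M)] {S : Type u} [Field S] [Algebra L S] (v : S →ₐ[L] M)
    (hK0 : IsField (K ⊗[L] S)) (hv : ∀ m : M, ∃ n s, v s = m ^ q ^ n) : IsField (K ⊗[L] M) := by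
  let ι : K ⊗[L] S →ₐ[L] K ⊗[L] M := Algebra.TensorProduct.map (AlgHom.id L K) v
  haveI : Nontrivial (K ⊗[L] M) := (Algebra.TensorProduct.includeLeft_injective (S := L) (A := K) (B := M)
    (algebraMap L M).injective).nontrivial
  haveI : ExpChar (K ⊗[L] M) q :=
    expChar_of_injective_ringHom (f := algebraMap L (K ⊗[L] M)) (algebraMap L (K ⊗[L] M)).injective q
  have key : ∀ z : K ⊗[L] M, ∃ N : ℕ, ∃ w, ι w = z ^ q ^ N := by
    intro z
    induction z using TensorProduct.induction_on with
    | zero => exact ⟨0, 0, by simp⟩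
    | tmul x m =>
      obtain ⟨n, s, hs⟩ := hv m
      refine ⟨n, (x ^ q ^ n) ⊗ₜ s, ?_⟩
      rw [Algebra.TensorProduct.tmul_pow, ← hs]
      rfl
    | add a b ha hb =>
      obtain ⟨Na, wa, hwa⟩ := ha
      obtain ⟨Nb, wb, hwb⟩ := hb
      refine ⟨Na + Nb, wa ^ q ^ Nb + wb ^ q ^ Na, ?_⟩
      rw [map_add, map_pow, map_pow, hwa, hwb, add_pow_expChar_pow, ← pow_mul, ← pow_mul, ← pow_add,
        ← pow_add, add_comm Nb Na]
  refine ⟨exists_pair_ne _, mul_comm, fun {z} hz => ?_⟩
  obtain ⟨N, w, hw⟩ := key z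
  have hqN : q ^ N ≠ 0 := pow_ne_zero _ (expChar_pos L q).ne'
  have hw0 : w ≠ 0 := by
    rintro rfl
    rw [map_zero] at hw
    exact hz (eq_zero_of_pow_eq_zero hw.symm)
  obtain ⟨w', hw'⟩ := hK0.mul_inv_cancel hw0
  refine ⟨z ^ (q ^ N - 1) * ι w', ?_⟩
  rw [← mul_assoc, ← pow_succ', Nat.sub_add_cancel (Nat.pos_of_ne_zero hqN), ← hw, ← map_mul, hw', map_one]

theorem isField_tensor (hL : ∀ x : K, IsIntegral L x → x ∈ Set.range (algebraMap L K))
    (M : Type u) [Field M] [Algebra L M] [FiniteDimensional L M] [IsReduced (K ⊗[L] M)] :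
    IsField (K ⊗[L] M) := by
  haveI : ExpChar L (ringExpChar L) := ringExpChar.expChar L
  obtain ⟨α, hα⟩ := Field.exists_primitive_element L (separableClosure L M)
  refine isField_tensor_of_pow (ringExpChar L) (separableClosure L M).val
    (isField_tensor_simple hL α (IsIntegral.of_finite L α) hα) fun m => ?_
  haveI : ExpChar (separableClosure L M) (ringExpChar L) :=
    expChar_of_injective_algebraMap (algebraMap L (separableClosure L M)).injective _
  obtain ⟨n, s, hs⟩ := IsPurelyInseparable.pow_mem (separableClosure L M) (ringExpChar L) m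
  exact ⟨n, s, hs⟩

theorem finrank_dvd (hL : ∀ x : K, IsIntegral L x → x ∈ Set.range (algebraMap L K))
    (M : Type u) [Field M] [Algebra L M] [FiniteDimensional L M] [IsReduced (K ⊗[L] M)]
    (N : Type u) [Field N] [Algebra K N] [Algebra L N] [IsScalarTower L K N] (φ : M →ₐ[L] N) :
    Module.finrank L M ∣ Module.finrank K N := by
  letI := (isField_tensor hL M).toField
  let ψ : K ⊗[L] M →ₐ[K] N := Algebra.TensorProduct.lift (Algebra.ofId K N) φ fun _ _ => Commute.all _ _
  letI : Algebra (K ⊗[L] M) N := ψ.toRingHom.toAlgebra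
  haveI : IsScalarTower K (K ⊗[L] M) N := IsScalarTower.of_algebraMap_eq fun x => (ψ.commutes x).symm
  have := Module.finrank_mul_finrank K (K ⊗[L] M) N
  rw [Module.finrank_baseChange] at this
  exact ⟨_, this.symm⟩

end FinDegLib
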