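import Groth.Agent.FinDegLib.Alg
import Mathlib

/-!
# Global sections inside the function field of a normal integral scheme
-/

set_option autoImplicit false
universe u

open CategoryTheory CategoryTheory.Limits AlgebraicGeometry TopologicalSpace Opposite
open scoped TensorProduct

namespace FinDegLib

variable {X : Scheme.{u}} [IsIntegral X]

theorem nonempty_of_mem {U : X.Opens} {x : X} (h : x ∈ U) : Nonempty U := ⟨⟨x, h⟩⟩

theorem generic_mem (U : X.Opens) [Nonempty U] : genericPoint X ∈ U :=
  (((genericPoint_spec X).mem_open_set_iff U.isOpen).mpr (by simpa using ‹Nonempty U›))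

/-- An element of the function field that is integral over the global sections is a global section. -/
theorem exists_global_of_integral (hXn : ∀ x : X, IsIntegrallyClosed (X.presheaf.stalk x))
    (s : X.functionField) (p : Polynomial Γ(X, ⊤)) (hp : p.Monic)
    (hs : p.eval₂ (X.presheaf.germ ⊤ (genericPoint X) trivial).hom s = 0) :
    ∃ a : Γ(X, ⊤), (X.presheaf.germ ⊤ (genericPoint X) trivial).hom a = s := by
  have hloc : ∀ x : X, ∃ (U : X.Opens) (_ : x ∈ U) (hη : genericPoint X ∈ U) (a : Γ(X, U)),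
      (X.presheaf.germ U (genericPoint X) hη).hom a = s := by
    intro x
    haveI := hXn x
    have hspec : (genericPoint X) ⤳ x := (genericPoint_spec X).specializes trivial
    have hcomp : (algebraMap (X.presheaf.stalk x) X.functionField).comp (X.presheaf.germ ⊤ x trivial).hom =
        (X.presheaf.germ ⊤ (genericPoint X) trivial).hom := by
      ext a
      exact congrArg (fun φ : Γ(X, ⊤) ⟶ X.functionField => φ.hom a)
        (X.presheaf.germ_stalkSpecializes (U := ⊤) trivial hspec)
    have hint : IsIntegral (X.presheaf.stalk x) s := by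
      refine ⟨p.map (X.presheaf.germ ⊤ x trivial).hom, hp.map _, ?_⟩
      rw [Polynomial.eval₂_map, hcomp]
      exact hs
    obtain ⟨y, hy⟩ := IsIntegrallyClosed.isIntegral_iff.1 hint
    obtain ⟨U, hxU, a, rfl⟩ := X.presheaf.exists_germ_eq y
    haveI := nonempty_of_mem hxU
    refine ⟨U, hxU, generic_mem U, a, ?_⟩
    rw [← hy]
    exact (congrArg (fun φ : Γ(X, U) ⟶ X.functionField => φ.hom a)
      (X.presheaf.germ_stalkSpecializes hxU hspec)).symm
  choose U hxU hη a ha using hloc
  have hcompat : TopCat.Presheaf.IsCompatible X.presheaf U a := by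
    intro i j
    have hmem : genericPoint X ∈ U i ⊓ U j := ⟨hη i, hη j⟩
    apply germ_injective_of_isIntegral X (U := U i ⊓ U j) (genericPoint X) hmem
    exact ((TopCat.Presheaf.germ_res_apply X.presheaf _ _ _ _).trans ((ha i).trans (ha j).symm)).trans
      (TopCat.Presheaf.germ_res_apply X.presheaf _ _ _ _).symm
  obtain ⟨g, hg, -⟩ := TopCat.Sheaf.existsUnique_gluing' X.sheaf U ⊤ (fun i => homOfLE le_top)
    (fun x _ => Opens.mem_iSup.2 ⟨x, hxU x⟩) a hcompat
  refine ⟨g, ?_⟩
  let x₀ := genericPoint X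
  rw [← ha x₀, ← hg x₀]
  exact (TopCat.Presheaf.germ_res_apply X.presheaf _ _ _ g).symm

/-- Localizing a reduced tensor product. -/
theorem isReduced_tensor_fraction {A U F E : Type u} [CommRing A] [CommRing U] [CommRing F] [CommRing E]
    [Algebra A U] [Algebra A E] [Algebra U F] [Algebra A F] [IsScalarTower A U F] (S : Submonoid U)
    [IsLocalization S F] [h : _root_.IsReduced (U ⊗[A] E)] : _root_.IsReduced (F ⊗[A] E) := by
  let φ := (Algebra.TensorProduct.cancelBaseChange A U F F E).symm.toRingEquiv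
  letI : Algebra (U ⊗[A] E) (F ⊗[U] (U ⊗[A] E)) := Algebra.TensorProduct.rightAlgebra
  haveI : IsLocalization (Algebra.algebraMapSubmonoid (U ⊗[A] E) S) (F ⊗[U] (U ⊗[A] E)) := inferInstance
  haveI : _root_.IsReduced (F ⊗[U] (U ⊗[A] E)) :=
    isReduced_localizationPreserves (Algebra.algebraMapSubmonoid (U ⊗[A] E) S) _ h
  exact isReduced_of_injective φ φ.injective

omit [IsIntegral X] in
/-- Geometric reducedness on an affine open. -/
theorem isReduced_affine (E : Type u) [Field E] (i : Γ(X, ⊤) →+* E)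
    (h : AlgebraicGeometry.IsReduced (pullback X.toSpecΓ (Spec.map (CommRingCat.ofHom i))))
    {U : X.Opens} (hU : IsAffineOpen U) [Algebra Γ(X, ⊤) Γ(X, U)]
    (halg : algebraMap Γ(X, ⊤) Γ(X, U) = (X.presheaf.map (homOfLE le_top).op).hom) [Algebra Γ(X, ⊤) E]
    (hi : algebraMap Γ(X, ⊤) E = i) : _root_.IsReduced (Γ(X, U) ⊗[Γ(X, ⊤)] E) := by
  haveI := h
  let g : Spec Γ(X, U) ⟶ Spec Γ(X, ⊤) := Spec.map (CommRingCat.ofHom (algebraMap Γ(X, ⊤) Γ(X, U)))
  have hg : hU.fromSpec ≫ X.toSpecΓ = g := by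
    rw [IsAffineOpen.fromSpec_toSpecΓ]
    simp only [g, halg]
    rfl
  haveI : IsOpenImmersion ((pullbackRightPullbackFstIso X.toSpecΓ (Spec.map (CommRingCat.ofHom i)) hU.fromSpec).inv ≫
      pullback.snd hU.fromSpec (pullback.fst X.toSpecΓ (Spec.map (CommRingCat.ofHom i)))) := inferInstance
  have h1 : AlgebraicGeometry.IsReduced (pullback (hU.fromSpec ≫ X.toSpecΓ) (Spec.map (CommRingCat.ofHom i))) :=
    isReduced_of_isOpenImmersion ((pullbackRightPullbackFstIso X.toSpecΓ (Spec.map (CommRingCat.ofHom i)) hU.fromSpec).inv ≫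
      pullback.snd hU.fromSpec (pullback.fst X.toSpecΓ (Spec.map (CommRingCat.ofHom i))))
  rw [hg, ← hi] at h1
  haveI : AlgebraicGeometry.IsReduced (pullback (Spec.map (CommRingCat.ofHom (algebraMap Γ(X, ⊤) Γ(X, U))))
      (Spec.map (CommRingCat.ofHom (algebraMap Γ(X, ⊤) E)))) := h1
  haveI : AlgebraicGeometry.IsReduced (Spec (CommRingCat.of (Γ(X, U) ⊗[Γ(X, ⊤)] E))) :=
    isReduced_of_isOpenImmersion (pullbackSpecIso Γ(X, ⊤) Γ(X, U) E).inv
  exact (affine_isReduced_iff (CommRingCat.of (Γ(X, U) ⊗[Γ(X, ⊤)] E))).1 inferInstance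

/-- Geometric reducedness at the generic point. -/
theorem isReduced_functionField (E : Type u) [Field E] (i : Γ(X, ⊤) →+* E)
    (h : AlgebraicGeometry.IsReduced (pullback X.toSpecΓ (Spec.map (CommRingCat.ofHom i))))
    [Algebra Γ(X, ⊤) X.functionField]
    (halg : algebraMap Γ(X, ⊤) X.functionField = (X.presheaf.germ ⊤ (genericPoint X) trivial).hom)
    [Algebra Γ(X, ⊤) E] (hi : algebraMap Γ(X, ⊤) E = i) :
    _root_.IsReduced (X.functionField ⊗[Γ(X, ⊤)] E) := by
  obtain ⟨_, ⟨U, hU, rfl⟩, hxU, -⟩ :=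
    X.isBasis_affineOpens.exists_subset_of_mem_open (Set.mem_univ (genericPoint X)) isOpen_univ
  haveI := nonempty_of_mem hxU
  letI : Algebra Γ(X, ⊤) Γ(X, U) := (X.presheaf.map (homOfLE le_top).op).hom.toAlgebra
  haveI : IsScalarTower Γ(X, ⊤) Γ(X, U) X.functionField := IsScalarTower.of_algebraMap_eq fun a => by
    rw [halg]
    exact (TopCat.Presheaf.germ_res_apply X.presheaf _ _ _ a).symm
  haveI := functionField_isFractionRing_of_isAffineOpen X U hU
  haveI := isReduced_affine E i h hU rfl hi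
  exact isReduced_tensor_fraction (U := Γ(X, U)) (nonZeroDivisors Γ(X, U))

theorem residue_bijective : Function.Bijective (X.residue (genericPoint X)).hom :=
  ⟨RingHom.injective (X.residue (genericPoint X)).hom, X.residue_surjective _⟩

/-- Transfer of the statements to the residue field at a point equal to the generic one. -/
theorem residueField_props (hXn : ∀ x : X, IsIntegrallyClosed (X.presheaf.stalk x)) (x₀ : X)
    (hx₀ : x₀ = genericPoint X) [Algebra Γ(X, ⊤) (X.residueField x₀)]
    (halg : algebraMap Γ(X, ⊤) (X.residueField x₀) = (X.Γevaluation x₀).hom) :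
    (∀ y : X.residueField x₀, IsIntegral Γ(X, ⊤) y → y ∈ Set.range (algebraMap Γ(X, ⊤) (X.residueField x₀))) ∧
      ∀ (E : Type u) [Field E] [Algebra Γ(X, ⊤) E],
        AlgebraicGeometry.IsReduced (pullback X.toSpecΓ (Spec.map (CommRingCat.ofHom (algebraMap Γ(X, ⊤) E)))) →
          _root_.IsReduced (X.residueField x₀ ⊗[Γ(X, ⊤)] E) := by
  subst hx₀
  letI : Algebra Γ(X, ⊤) X.functionField := (X.presheaf.germ ⊤ (genericPoint X) trivial).hom.toAlgebra
  have hev : (X.Γevaluation (genericPoint X)).hom =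
      (X.residue (genericPoint X)).hom.comp (X.presheaf.germ ⊤ (genericPoint X) trivial).hom := by
    rfl
  let θ : X.functionField ≃ₐ[Γ(X, ⊤)] X.residueField (genericPoint X) :=
    AlgEquiv.ofBijective
      { (X.residue (genericPoint X)).hom with
        commutes' := fun a => by rw [halg, hev]; rfl }
      residue_bijective
  refine ⟨fun y hy => ?_, fun E _ _ hred => ?_⟩
  · obtain ⟨p, hp, hpy⟩ := hy.map θ.symm.toAlgHom
    obtain ⟨a, ha⟩ := exists_global_of_integral hXn (θ.symm y) p hp hpy
    refine ⟨a, ?_⟩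
    rw [← θ.apply_symm_apply y, ← ha]
    exact (θ.commutes a).symm
  · haveI := isReduced_functionField E _ hred rfl rfl
    let φ := (Algebra.TensorProduct.congr θ (AlgEquiv.refl : E ≃ₐ[Γ(X, ⊤)] E)).symm
    exact isReduced_of_injective φ φ.injective

end FinDegLib
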